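import Mathlib
import Cfsg.Prelude.Def_Classical
import Cfsg.Prelude.Def_KGroupFacts
import Cfsg.Agent.Lib.Helper16.SpinG
import Cfsg.Agent.Lib.Lead.STD.Defs
import Cfsg.Agent.Lib.Helper1.OMPK4

/-!
# Project SPN (designer lead): S2096 + S2097, the Schur multiplier of `PΩ⁺_{2l}(q)`.  DEFINITIONS.

* Clifford side: `Cl l F = CliffordAlgebra (qfPlus l F)` (the hyperbolic form `Σ x_i y_i` on `Fin l ⊕ Fin l → F`), the generators
  `gam a = ι (e_a)` with the CAR `gam a * gam b + gam b * gam a = [a = ng b]`, `EE a b = gam a * gam (ng b)`,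
  the root elements `XC a b t = 1 + t • EE a b` in the unit group (`= 1` if `a = b` or `a = ng b`).
* functoriality of lead's `SysD`: `SysD.map`, `SysD.prod`, `SysD.restrict`.
* `Cov l F G`: a group `G` with a generating `SysD` and a homomorphism onto `Ω⁺_{2l}(F)` sending `x a b t` to `Td a b t`;
  its spin element `Cov.zel`.
-/

set_option autoImplicit false

namespace Cfsg.Agent.Lib.Lead.SPN

open Cfsg.Agent.Lib.helper15.St2 Cfsg.Agent.Lib.helper3.STC Cfsg.Agent.Lib.Lead.STD Cfsg.Agent.Lib.Helper16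
  Cfsg.Agent.Lib.Helper1.OMP

universe u v w

/-! ## the Clifford algebra -/

section Cliff

variable (l : ℕ) (F : Type u) [Field F]

/-- the Clifford algebra of the hyperbolic form -/
abbrev Cl : Type u := CliffordAlgebra (qfPlus l F)

variable {l F}

/-- the generators `γ_a = ι(e_a)` -/
noncomputable def gam (a : Fin l ⊕ Fin l) : Cl l F := CliffordAlgebra.ι (qfPlus l F) (Pi.single a 1)

theorem qfPlus_single (a : Fin l ⊕ Fin l) : qfPlus l F (Pi.single a 1) = 0 := by
  rw [qfPlus_coe]
  unfold Cfsg.quadFormPlus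
  apply Finset.sum_eq_zero
  intro i _
  rcases a with a | a
  · have : (Sum.inr i : Fin l ⊕ Fin l) ≠ Sum.inl a := by simp
    rw [Pi.single_apply, Pi.single_apply, if_neg this, mul_zero]
  · have : (Sum.inl i : Fin l ⊕ Fin l) ≠ Sum.inr a := by simp
    rw [Pi.single_apply, Pi.single_apply, if_neg this, zero_mul]

theorem polar_single (a b : Fin l ⊕ Fin l) :
    QuadraticMap.polar (qfPlus l F) (Pi.single a 1) (Pi.single b 1) = if a = ng b then 1 else 0 := by
  rw [qfPlus_coe, polar_plus]
  rcases a with a | a <;> rcases b with b | b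
  · rw [if_neg (by simp [ng])]
    apply Finset.sum_eq_zero
    intro i _
    simp [Pi.single_apply]
  · by_cases h : a = b
    · subst h
      rw [if_pos (by simp [ng]), Finset.sum_eq_single a]
      · simp [Pi.single_apply]
      · intro i _ hi
        simp [Pi.single_apply, hi]
      · intro h; exact absurd (Finset.mem_univ _) h
    · rw [if_neg (by simpa [ng] using h)]
      apply Finset.sum_eq_zero
      intro i _
      by_cases hia : i = a
      · subst hia
        simp [Pi.single_apply, h]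
      · simp [Pi.single_apply, hia]
  · by_cases h : a = b
    · subst h
      rw [if_pos (by simp [ng]), Finset.sum_eq_single a]
      · simp [Pi.single_apply]
      · intro i _ hi
        simp [Pi.single_apply, hi]
      · intro h; exact absurd (Finset.mem_univ _) h
    · rw [if_neg (by simpa [ng] using h)]
      apply Finset.sum_eq_zero
      intro i _
      by_cases hia : i = a
      · subst hia
        simp [Pi.single_apply, h]
      · simp [Pi.single_apply, hia]
  · rw [if_neg (by simp [ng])]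
    apply Finset.sum_eq_zero
    intro i _
    simp [Pi.single_apply]

theorem gam_sq (a : Fin l ⊕ Fin l) : gam (F := F) a * gam a = 0 := by
  unfold gam
  rw [CliffordAlgebra.ι_sq_scalar, qfPlus_single, map_zero]

/-- the canonical anticommutation relations -/
theorem gam_car (a b : Fin l ⊕ Fin l) :
    gam (F := F) a * gam b + gam b * gam a = if a = ng b then 1 else 0 := by
  unfold gam
  rw [CliffordAlgebra.ι_mul_ι_add_swap, polar_single]
  split_ifs <;> simp

theorem gam_anti {a b : Fin l ⊕ Fin l} (h : a ≠ ng b) : gam (F := F) a * gam b = -(gam b * gam a) := by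
  have := gam_car (F := F) a b
  rw [if_neg h] at this
  exact eq_neg_of_add_eq_zero_left this

/-- `E_{ab} = γ_a γ_{-b}` -/
noncomputable def EE (a b : Fin l ⊕ Fin l) : Cl l F := gam a * gam (ng b)

theorem EE_sq {a b : Fin l ⊕ Fin l} (hab : a ≠ b) : EE (F := F) a b * EE a b = 0 := by
  unfold EE
  have h1 : gam (F := F) (ng b) * gam a = -(gam a * gam (ng b)) := by
    apply gam_anti
    intro h
    apply hab
    have := congrArg ng h
    rw [ng_ng, ng_ng] at this
    exact this.symm
  calc gam (F := F) a * gam (ng b) * (gam a * gam (ng b))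
      = gam a * (gam (ng b) * gam a) * gam (ng b) := by noncomm_ring
    _ = -(gam a * gam a * (gam (ng b) * gam (ng b))) := by rw [h1]; noncomm_ring
    _ = 0 := by rw [gam_sq, gam_sq]; simp

theorem one_add_mul_one_sub {A : Type*} [Ring A] (y : A) (hy : y * y = 0) : (1 + y) * (1 - y) = 1 := by
  calc (1 + y) * (1 - y) = 1 - y * y := by noncomm_ring
    _ = 1 := by rw [hy, sub_zero]

theorem one_sub_mul_one_add {A : Type*} [Ring A] (y : A) (hy : y * y = 0) : (1 - y) * (1 + y) = 1 := by
  calc (1 - y) * (1 + y) = 1 - y * y := by noncomm_ring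
    _ = 1 := by rw [hy, sub_zero]

theorem smul_sq_zero {A : Type*} [Ring A] [Algebra F A] (e : A) (he : e * e = 0) (t : F) :
    (t • e) * (t • e) = 0 := by
  rw [smul_mul_smul_comm, he, smul_zero]

/-- the unit `1 + t • e` for `e * e = 0` -/
def unitSqZero {A : Type*} [Ring A] [Algebra F A] (e : A) (he : e * e = 0) (t : F) : Aˣ where
  val := 1 + t • e
  inv := 1 - t • e
  val_inv := one_add_mul_one_sub _ (smul_sq_zero e he t)
  inv_val := one_sub_mul_one_add _ (smul_sq_zero e he t)

open Classical in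
/-- the root elements of the spin group: `1 + t γ_a γ_{-b}` -/
noncomputable def XC (a b : Fin l ⊕ Fin l) (t : F) : (Cl l F)ˣ :=
  if h : a = b ∨ a = ng b then 1 else unitSqZero (EE a b) (EE_sq (fun e => h (Or.inl e))) t

theorem XC_val {a b : Fin l ⊕ Fin l} (hab : a ≠ b) (hab' : a ≠ ng b) (t : F) :
    ((XC a b t : (Cl l F)ˣ) : Cl l F) = 1 + t • EE a b := by
  unfold XC
  rw [dif_neg (by rintro (h | h); exact hab h; exact hab' h)]
  rfl

end Cliff

/-! ## functoriality of `SysD` -/

section Funct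

variable {K : Type*} [Field K] {ι : Type*} {G : Type*} [Group G] {H : Type*} [Group H]

theorem map_wOf (f : G →* H) (x : ι ⊕ ι → ι ⊕ ι → K → G) (a b : ι ⊕ ι) (t : K) :
    f (wOf x a b t) = wOf (fun a b t => f (x a b t)) a b t := by
  unfold wOf
  rw [map_mul, map_mul]

theorem map_cj (f : G →* H) (g y : G) : f (cj g y) = cj (f g) (f y) := by
  unfold cj
  rw [map_mul, map_mul, map_inv]

/-- the image of a `SysD` under a homomorphism -/
def _root_.Cfsg.Agent.Lib.Lead.STD.SysD.map (S : SysD K ι G) (f : G →* H) : SysD K ι H where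
  x a b t := f (S.x a b t)
  diag a t := by rw [S.diag, map_one]
  opp a t := by rw [S.opp, map_one]
  sym a b hab hab' t := by rw [S.sym a b hab hab' t]
  add a b hab hab' t u := by rw [← map_mul, S.add a b hab hab']
  comm a b c d h1 h2 h3 h4 h5 h6 h7 h8 t u := by
    rw [← map_mul, ← map_mul, S.comm a b c d h1 h2 h3 h4 h5 h6 h7 h8]
  comm3 a b c h1 h2 h3 h4 h5 h6 t u := by
    rw [← map_inv, ← map_inv, ← map_mul, ← map_mul, ← map_mul, S.comm3 a b c h1 h2 h3 h4 h5 h6]
  sso a b hab hab' t u := by rw [← map_mul, ← map_mul, S.sso a b hab hab']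
  rel a b hab hab' t u ht := by
    rw [← map_wOf, ← map_cj, S.rel a b hab hab' t u ht]

theorem _root_.Cfsg.Agent.Lib.Lead.STD.SysD.map_x (S : SysD K ι G) (f : G →* H) (a b : ι ⊕ ι) (t : K) :
    (S.map f).x a b t = f (S.x a b t) := rfl

theorem _root_.Cfsg.Agent.Lib.Lead.STD.SysD.map_w (S : SysD K ι G) (f : G →* H) (a b : ι ⊕ ι) (t : K) :
    (S.map f).w a b t = f (S.w a b t) := by
  unfold SysD.w
  rw [map_mul, map_mul]
  rfl

theorem _root_.Cfsg.Agent.Lib.Lead.STD.SysD.map_h (S : SysD K ι G) (f : G →* H) (a b : ι ⊕ ι) (t : K) :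
    (S.map f).h a b t = f (S.h a b t) := by
  unfold SysD.h
  rw [map_mul, SysD.map_w, SysD.map_w]

/-- the product of two `SysD` -/
def _root_.Cfsg.Agent.Lib.Lead.STD.SysD.prod (S : SysD K ι G) (T : SysD K ι H) : SysD K ι (G × H) where
  x a b t := (S.x a b t, T.x a b t)
  diag a t := by rw [S.diag, T.diag]; rfl
  opp a t := by rw [S.opp, T.opp]; rfl
  sym a b hab hab' t := by rw [S.sym a b hab hab' t, T.sym a b hab hab' t]
  add a b hab hab' t u := by rw [Prod.mk_mul_mk, S.add a b hab hab', T.add a b hab hab']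
  comm a b c d h1 h2 h3 h4 h5 h6 h7 h8 t u := by
    rw [Prod.mk_mul_mk, Prod.mk_mul_mk, S.comm a b c d h1 h2 h3 h4 h5 h6 h7 h8, T.comm a b c d h1 h2 h3 h4 h5 h6 h7 h8]
  comm3 a b c h1 h2 h3 h4 h5 h6 t u := by
    rw [Prod.inv_mk, Prod.inv_mk, Prod.mk_mul_mk, Prod.mk_mul_mk, Prod.mk_mul_mk, S.comm3 a b c h1 h2 h3 h4 h5 h6,
      T.comm3 a b c h1 h2 h3 h4 h5 h6]
  sso a b hab hab' t u := by
    rw [Prod.mk_mul_mk, Prod.mk_mul_mk, S.sso a b hab hab', T.sso a b hab hab']
  rel a b hab hab' t u ht := by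
    have h1 := S.rel a b hab hab' t u ht
    have h2 := T.rel a b hab hab' t u ht
    unfold cj wOf at h1 h2 ⊢
    simp only [Prod.mk_mul_mk, Prod.inv_mk]
    rw [h1, h2]

/-- the restriction of a `SysD` to a subgroup containing the root elements -/
def _root_.Cfsg.Agent.Lib.Lead.STD.SysD.restrict (S : SysD K ι G) (L : Subgroup G) (hL : ∀ a b t, S.x a b t ∈ L) :
    SysD K ι L where
  x a b t := ⟨S.x a b t, hL a b t⟩
  diag a t := Subtype.ext (S.diag a t)
  opp a t := Subtype.ext (S.opp a t)
  sym a b hab hab' t := Subtype.ext (S.sym a b hab hab' t)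
  add a b hab hab' t u := Subtype.ext (S.add a b hab hab' t u)
  comm a b c d h1 h2 h3 h4 h5 h6 h7 h8 t u := Subtype.ext (S.comm a b c d h1 h2 h3 h4 h5 h6 h7 h8 t u)
  comm3 a b c h1 h2 h3 h4 h5 h6 t u := Subtype.ext (S.comm3 a b c h1 h2 h3 h4 h5 h6 t u)
  sso a b hab hab' t u := Subtype.ext (S.sso a b hab hab' t u)
  rel a b hab hab' t u ht := Subtype.ext (S.rel a b hab hab' t u ht)

end Funct

/-! ## covering data -/

/-- A covering datum for `Ω⁺_{2l}(F)`: a group `G` with a generating Steinberg system of type `D` and a homomorphism to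
`Ω⁺_{2l}(F)` which sends the root element `x a b t` to the element with matrix `Td a b t`. -/
structure Cov (l : ℕ) (F : Type u) [Field F] (G : Type v) [Group G] where
  hl : 4 ≤ l
  S : SysD F (Fin l) G
  gen : S.XQ (fun _ _ => True) = ⊤
  π : G →* ↥(Cfsg.Omega F (Cfsg.quadFormPlus l F))
  hπ : ∀ a b : Fin l ⊕ Fin l, a ≠ b → a ≠ ng b → ∀ t : F, omat (π (S.x a b t)) = Td a b t

namespace Cov

variable {l : ℕ} {F : Type u} [Field F] {G : Type v} [Group G] (C : Cov l F G)

/-- the index `0` -/
def i0 : Fin l := ⟨0, by have := C.hl; omega⟩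

/-- the index `1` -/
def i1 : Fin l := ⟨1, by have := C.hl; omega⟩

/-- the spin element `h_{0,1}(-1) h_{0,-1}(-1)` -/
def zel : G := C.S.h (Sum.inl C.i0) (Sum.inl C.i1) (-1) * C.S.h (Sum.inl C.i0) (Sum.inr C.i1) (-1)

/-- the composite `G → Ω → PΩ` -/
def sig : G →* Cfsg.POmega F (Cfsg.quadFormPlus l F) :=
  (QuotientGroup.mk' (Subgroup.center ↥(Cfsg.Omega F (Cfsg.quadFormPlus l F)))).comp C.π

end Cov

/-- a central extension: a surjective homomorphism with central kernel -/
def IsCExt {Γ : Type*} {G : Type*} [Group Γ] [Group G] (τ : Γ →* G) : Prop :=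
  Function.Surjective τ ∧ τ.ker ≤ Subgroup.center Γ

end Cfsg.Agent.Lib.Lead.SPN
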