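import Mathlib
import Cfsg.Agent.Lib.Lead.SPN.Defs

/-!
# Project SPN (designer lead): S2096 + S2097.  DEFINITIONS, part 2: the idempotents `pp a = γ_a γ_{-a}` of the Clifford algebra,
the representation `Cov.rep` of a covering datum, the covering datum on a quotient.
-/

set_option autoImplicit false

namespace Cfsg.Agent.Lib.Lead.SPN

open Cfsg.Agent.Lib.helper15.St2 Cfsg.Agent.Lib.helper3.STC Cfsg.Agent.Lib.Lead.STD Cfsg.Agent.Lib.Helper16
  Cfsg.Agent.Lib.Helper1.OMP

universe u v w

/-- the idempotent `γ_a γ_{-a}` -/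
noncomputable def pp {l : ℕ} {F : Type u} [Field F] (a : Fin l ⊕ Fin l) : Cl l F := gam a * gam (ng a)

namespace Cov

variable {l : ℕ} {F : Type u} [Field F] {G : Type v} [Group G] (C : Cov l F G)

/-- the representation of a covering datum (as in helper1's `omp_bijective_of_sysD`) -/
def rep : C.S.Rep (Fin l) where
  e := Function.Embedding.refl (Fin l)
  φ := ogl.comp C.π
  hφ := by
    intro a b hab hab' t
    have h1 : Em (Function.Embedding.refl (Fin l)) a = a := by cases a <;> rfl
    have h2 : Em (Function.Embedding.refl (Fin l)) b = b := by cases b <;> rfl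
    rw [h1, h2]
    exact C.hπ a b hab hab' t

theorem rep_M (g : G) : C.rep.M g = omat (C.π g) := rfl

theorem rep_Em (a : Fin l ⊕ Fin l) : Em C.rep.e a = a := by cases a <;> rfl

end Cov

end Cfsg.Agent.Lib.Lead.SPN
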